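import Mathlib
import Cfsg.Agent.Frobenius.Linear

/-! # Changing the field of a fixed-point-free representation

A finite group `G` has a fixed-point-free representation over a field `K` of characteristic prime
to `|G|` exactly when some non-zero element of the group algebra is killed from the left by the
sum of the powers of every non-identity element.  This condition does not depend on `K`:
`exists_rep_any_field` transfers a representation from a prime field to every field.
-/

set_option autoImplicit false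
open MonoidAlgebra

namespace CfsgLib.Frobenius.ChangeField

variable {G : Type*} [Group G] [Finite G] {R : Type*} [CommRing R]

/-- The sum of the powers of `h` in the group algebra. -/
noncomputable def cycSum (R : Type*) [CommRing R] (h : G) : MonoidAlgebra R G :=
  ∑ i ∈ Finset.range (orderOf h), of R G (h ^ i)

/-- Killed from the left by the sum of the powers of every non-identity element. -/
def Killed (y : MonoidAlgebra R G) : Prop := ∀ h : G, h ≠ 1 → cycSum R h * y = 0

omit [Finite G] in
lemma coeff_cycSum_mul (h : G) (y : MonoidAlgebra R G) (g : G) :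
    (cycSum R h * y).coeff g = ∑ i ∈ Finset.range (orderOf h), y.coeff ((h ^ i)⁻¹ * g) := by
  simp [cycSum, Finset.sum_mul, coeff_sum, Finsupp.finsetSum_apply, of_apply]

omit [Finite G] in
lemma of_mul_cycSum (h : G) : of R G h * cycSum R h = cycSum R h := by
  rw [← sub_eq_zero, ← sub_one_mul]
  have : cycSum R h = ∑ i ∈ Finset.range (orderOf h), (of R G h) ^ i := by
    simp only [cycSum, map_pow]
  rw [this, mul_geom_sum, ← map_pow, pow_orderOf_eq_one, map_one, sub_self]

omit [Finite G] in
lemma cycSum_mul_self (h : G) : cycSum R h * cycSum R h = (orderOf h : R) • cycSum R h := by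
  have hi : ∀ i : ℕ, of R G (h ^ i) * cycSum R h = cycSum R h := by
    intro i
    induction i with
    | zero => rw [pow_zero, map_one, one_mul]
    | succ i ih => rw [pow_succ, map_mul, mul_assoc, of_mul_cycSum, ih]
  conv_lhs => arg 1; rw [cycSum]
  rw [Finset.sum_mul, Finset.sum_congr rfl fun i _ => hi i, Finset.sum_const, Finset.card_range,
    Nat.cast_smul_eq_nsmul]

omit [Finite G] in
lemma cycSum_pow (h : G) (n : ℕ) :
    cycSum R h ^ (n + 1) = ((orderOf h : R) ^ n) • cycSum R h := by
  induction n with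
  | zero => simp
  | succ n ih => rw [pow_succ, ih, smul_mul_assoc, cycSum_mul_self, smul_smul, ← pow_succ]

omit [Finite G] in
lemma cycSum_conj (g h : G) :
    cycSum R h * of R G g = of R G g * cycSum R (g⁻¹ * h * g) := by
  have ho : orderOf (g⁻¹ * h * g) = orderOf h := by
    have := orderOf_injective (MulAut.conj g⁻¹).toMonoidHom (MulAut.conj g⁻¹).injective h
    simpa [MulAut.conj_apply] using this
  rw [cycSum, cycSum, ho, Finset.sum_mul, Finset.mul_sum]
  refine Finset.sum_congr rfl fun i _ => ?_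
  have hp : (g⁻¹ * h * g) ^ i = g⁻¹ * h ^ i * g := by
    simpa using conj_pow (a := g⁻¹) (b := h) (i := i)
  rw [← map_mul, ← map_mul, hp]
  congr 1
  group

omit [Finite G] in
lemma killed_zero : Killed (0 : MonoidAlgebra R G) := fun _ _ => mul_zero _

omit [Finite G] in
lemma Killed.add {y z : MonoidAlgebra R G} (hy : Killed y) (hz : Killed z) : Killed (y + z) :=
  fun h h1 => by rw [mul_add, hy h h1, hz h h1, add_zero]

omit [Finite G] in
lemma Killed.smul {y : MonoidAlgebra R G} (hy : Killed y) (c : R) : Killed (c • y) :=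
  fun h h1 => by rw [mul_smul_comm, hy h h1, smul_zero]

omit [Finite G] in
lemma Killed.mul_right {y : MonoidAlgebra R G} (hy : Killed y) (x : MonoidAlgebra R G) :
    Killed (y * x) :=
  fun h h1 => by rw [← mul_assoc, hy h h1, zero_mul]

omit [Finite G] in
lemma Killed.mul_left {y : MonoidAlgebra R G} (hy : Killed y) (x : MonoidAlgebra R G) :
    Killed (x * y) := by
  induction x using MonoidAlgebra.induction_on with
  | of g =>
    intro h h1
    rw [← mul_assoc, cycSum_conj, mul_assoc, hy _ (fun e => h1 ?_), mul_zero]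
    calc h = g * (g⁻¹ * h * g) * g⁻¹ := by group
      _ = 1 := by rw [e]; group
  | add x z hx hz => rw [add_mul]; exact hx.add hz
  | smul c x hx => rw [smul_mul_assoc]; exact hx.smul c

omit [Finite G] in
lemma map_cycSum {S : Type*} [CommRing S] (f : R →+* S) (h : G) :
    mapRingHom G f (cycSum R h) = cycSum S h := by
  simp [cycSum, of_apply]

omit [Finite G] in
lemma Killed.map {S : Type*} [CommRing S] (f : R →+* S) {y : MonoidAlgebra R G} (hy : Killed y) :
    Killed (mapRingHom G f y) := fun h h1 => by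
  rw [← map_cycSum f, ← map_mul, hy h h1, map_zero]

omit [Finite G] in
lemma killed_of_map {S : Type*} [CommRing S] {f : R →+* S} (hf : Function.Injective f)
    {y : MonoidAlgebra R G} (hy : Killed (mapRingHom G f y)) : Killed y := fun h h1 => by
  have := hy h h1
  rw [← map_cycSum f, ← map_mul] at this
  refine coeff_injective (Finsupp.ext fun g => hf ?_)
  rw [← coeff_mapRingHom, this]
  simp

omit [Finite G] in
lemma coeff_of_mul (a g : G) (y : MonoidAlgebra R G) :
    (of R G a * y).coeff g = y.coeff (a⁻¹ * g) := by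
  simp [of_apply]

omit [Finite G] in
lemma coeff_mul_of (a g : G) (y : MonoidAlgebra R G) :
    (y * of R G a).coeff g = y.coeff (g * a⁻¹) := by
  simp [of_apply]

/-- A fixed-point-free representation yields a killed element. -/
theorem exists_killed_of_rep {k V : Type*} [Field k] [AddCommGroup V] [Module k V] [Nontrivial V]
    {ρ : Representation k G V} (hρ : ∀ a : G, a ≠ 1 → ∀ v : V, ρ a v = v → v = 0) :
    ∃ y : MonoidAlgebra k G, y ≠ 0 ∧ Killed y := by
  classical
  have : Fintype G := Fintype.ofFinite G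
  obtain ⟨v, hv⟩ := exists_ne (0 : V)
  obtain ⟨l, hl⟩ : ∃ l : Module.Dual k V, l v ≠ 0 := by
    by_contra h
    push Not at h
    exact hv ((Module.forall_dual_apply_eq_zero_iff k v).1 h)
  let y : MonoidAlgebra k G := ∑ g : G, single g (l (ρ g⁻¹ v))
  have hy : ∀ g, y.coeff g = l (ρ g⁻¹ v) := fun g => by
    simp [y, coeff_sum, Finsupp.finsetSum_apply, Finsupp.single_apply]
  refine ⟨y, fun e => hl ?_, fun h h1 => ?_⟩
  · have := hy 1
    rw [e] at this
    simpa using this.symm
  refine coeff_injective (Finsupp.ext fun g => ?_)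
  rw [coeff_cycSum_mul, Finset.sum_congr rfl fun i _ => hy _]
  have hsum : ∑ i ∈ Finset.range (orderOf h), ρ (h ^ i) v = 0 := by
    refine hρ h h1 _ ?_
    have e : (ρ h - 1) * ∑ i ∈ Finset.range (orderOf h), ρ h ^ i = 0 := by
      rw [mul_geom_sum, ← map_pow, pow_orderOf_eq_one, map_one, sub_self]
    have e' := LinearMap.congr_fun e v
    simp only [Module.End.mul_apply, LinearMap.sub_apply, Module.End.one_apply, LinearMap.sum_apply,
      LinearMap.zero_apply, ← map_pow] at e'
    exact sub_eq_zero.1 e'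
  calc ∑ i ∈ Finset.range (orderOf h), l (ρ ((h ^ i)⁻¹ * g)⁻¹ v)
      = l (ρ g⁻¹ (∑ i ∈ Finset.range (orderOf h), ρ (h ^ i) v)) := by
        simp only [map_sum, mul_inv_rev, inv_inv, Linear.rep_mul_apply]
    _ = _ := by rw [hsum]; simp

/-- Rational to integral. -/
theorem exists_int_lift (y : MonoidAlgebra ℚ G) :
    ∃ (D : ℕ) (z : MonoidAlgebra ℤ G), 0 < D ∧
      mapRingHom G (Int.castRingHom ℚ) z = (D : ℚ) • y := by
  classical
  have : Fintype G := Fintype.ofFinite G
  refine ⟨∏ g : G, (y.coeff g).den,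
    ∑ g : G, single g ((y.coeff g).num * ∏ x ∈ Finset.univ.erase g, ((y.coeff x).den : ℤ)),
    Finset.prod_pos fun g _ => (y.coeff g).den_pos, ?_⟩
  refine coeff_injective (Finsupp.ext fun g => ?_)
  rw [coeff_mapRingHom, coeff_sum, Finsupp.finsetSum_apply, coeff_smul_apply]
  simp only [coeff_single, Finsupp.single_apply, Finset.sum_ite_eq', Finset.mem_univ, if_true]
  rw [← Finset.mul_prod_erase Finset.univ _ (Finset.mem_univ g)]
  push_cast
  rw [smul_eq_mul]
  conv_rhs => rw [mul_right_comm, mul_comm ((y.coeff g).den : ℚ) (y.coeff g)]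
  rw [Rat.mul_den_eq_num]
  simp

theorem exists_int_of_rat {y : MonoidAlgebra ℚ G} (hy0 : y ≠ 0) (hy : Killed y) :
    ∃ z : MonoidAlgebra ℤ G, z ≠ 0 ∧ Killed z := by
  obtain ⟨D, z, hD, hz⟩ := exists_int_lift y
  refine ⟨z, fun e => hy0 ?_, killed_of_map Int.cast_injective (hz ▸ hy.smul _)⟩
  rw [e, map_zero] at hz
  exact ((smul_eq_zero.1 hz.symm).resolve_left (by exact_mod_cast hD.ne'))

omit [Finite G] in
lemma exists_eq_natCast_mul [Fintype G] {m : ℕ} (x : MonoidAlgebra ℤ G)
    (hx : ∀ g, (m : ℤ) ∣ x.coeff g) : ∃ w : MonoidAlgebra ℤ G, x = (m : MonoidAlgebra ℤ G) * w := by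
  classical
  choose c hc using hx
  refine ⟨∑ g : G, single g (c g), coeff_injective (Finsupp.ext fun g => ?_)⟩
  rw [← nsmul_eq_mul, ← natCast_zsmul, coeff_smul_apply, smul_eq_mul, hc g]
  simp [coeff_sum, Finsupp.finsetSum_apply, Finsupp.single_apply]

omit [Finite G] in
lemma dvd_coeff_natCast_mul (m : ℕ) (w : MonoidAlgebra ℤ G) (g : G) :
    (m : ℤ) ∣ ((m : MonoidAlgebra ℤ G) * w).coeff g := by
  rw [← nsmul_eq_mul, ← natCast_zsmul, coeff_smul_apply, smul_eq_mul]
  exact dvd_mul_right _ _

/-- From a prime field to the integers. -/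
theorem exists_int_of_zmod {p : ℕ} [Fact p.Prime] (hp : (Nat.card G : ZMod p) ≠ 0)
    {y : MonoidAlgebra (ZMod p) G} (hy0 : y ≠ 0) (hy : Killed y) :
    ∃ z : MonoidAlgebra ℤ G, z ≠ 0 ∧ Killed z := by
  classical
  have : Fintype G := Fintype.ofFinite G
  have : NeZero (Nat.card G : ZMod p) := ⟨hp⟩
  have : NeZero (Nat.card G : ℚ) := ⟨by exact_mod_cast (Nat.card_pos (α := G)).ne'⟩
  -- the killed elements form a two-sided ideal, generated by a central idempotent
  let J : Ideal (MonoidAlgebra (ZMod p) G) :=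
    { carrier := {x | Killed x}
      add_mem' := fun ha hb => Killed.add ha hb
      zero_mem' := killed_zero
      smul_mem' := fun c x hx => Killed.mul_left hx c }
  obtain ⟨e, he, hJ⟩ := IsSemisimpleRing.ideal_eq_span_idempotent J
  have heJ : Killed e := show e ∈ J from hJ ▸ Ideal.subset_span rfl
  have hright : ∀ x, Killed x → x * e = x := by
    intro x hx
    obtain ⟨a, rfl⟩ := Ideal.mem_span_singleton'.1 (hJ ▸ (show x ∈ J from hx))
    rw [mul_assoc, he.eq]
  have hcentral : ∀ x, e * x = x * e := by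
    intro x
    set d := x * e - e * x * e with hd
    have hed : e * d = 0 := by
      simp only [hd, mul_sub, ← mul_assoc, he.eq, sub_self]
    have hdJ : Killed d := by
      have : d = (x - e * x) * e := by rw [hd, sub_mul]
      rw [this]; exact heJ.mul_left _
    have hdd : ∀ r, d * r * d = 0 := fun r => by
      rw [← hright _ (hdJ.mul_right r), mul_assoc, hed, mul_zero]
    obtain ⟨f, hf, hspan⟩ := IsSemisimpleRing.ideal_eq_span_idempotent (Ideal.span {d})
    have hf0 : f = 0 := by
      obtain ⟨a, ha⟩ := Ideal.mem_span_singleton'.1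
        (hspan.symm ▸ Ideal.subset_span rfl : f ∈ Ideal.span {d})
      rw [← hf.eq, ← ha, mul_assoc, ← mul_assoc d, hdd, mul_zero]
    have hd0 : d = 0 := by
      have : d ∈ Ideal.span {f} := hspan ▸ Ideal.subset_span rfl
      rw [hf0, Ideal.span_singleton_eq_bot.2 rfl] at this
      exact this
    rw [hd, sub_eq_zero] at hd0
    rw [hd0]
    exact (hright _ (heJ.mul_right x)).symm
  have he0 : e ≠ 0 := fun h => hy0 (by rw [← hright y hy, h, mul_zero])
  -- a central integral lift
  let u : MonoidAlgebra ℤ G := ∑ g : G, single g ((e.coeff g).val : ℤ)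
  have hu : ∀ g, u.coeff g = ((e.coeff g).val : ℤ) := fun g => by
    simp [u, coeff_sum, Finsupp.finsetSum_apply, Finsupp.single_apply]
  have hmap : mapRingHom G (Int.castRingHom (ZMod p)) u = e := by
    refine coeff_injective (Finsupp.ext fun g => ?_)
    rw [coeff_mapRingHom, hu]
    simp
  have hucent : ∀ x, Commute u x := by
    intro x
    induction x using MonoidAlgebra.induction_on with
    | of a =>
      refine coeff_injective (Finsupp.ext fun g => ?_)
      rw [coeff_mul_of, coeff_of_mul, hu, hu, ← coeff_mul_of, ← coeff_of_mul, hcentral]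
    | add x z hx hz => exact hx.add_right hz
    | smul c x hx => exact hx.smul_right c
  by_contra hcon
  push Not at hcon
  -- the left ideal generated by the sums is everything over the rationals
  let I : Ideal (MonoidAlgebra ℚ G) := Ideal.span {s | ∃ h : G, h ≠ 1 ∧ s = cycSum ℚ h}
  have hI1 : (1 : MonoidAlgebra ℚ G) ∈ I := by
    obtain ⟨f, hf, hIf⟩ := IsSemisimpleRing.ideal_eq_span_idempotent I
    have hkill : Killed (1 - f) := by
      intro h h1
      obtain ⟨a, ha⟩ := Ideal.mem_span_singleton'.1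
        (hIf ▸ Ideal.subset_span ⟨h, h1, rfl⟩ : cycSum ℚ h ∈ Ideal.span {f})
      rw [← ha, mul_assoc, mul_sub, mul_one, hf.eq, sub_self, mul_zero]
    by_cases h0 : (1 : MonoidAlgebra ℚ G) - f = 0
    · rw [hIf, sub_eq_zero.1 h0]; exact Ideal.subset_span rfl
    · obtain ⟨z, hz, hzk⟩ := exists_int_of_rat h0 hkill
      exact absurd hzk (hcon z hz)
  have key : ∀ x ∈ I, ∃ (D : ℕ) (z : MonoidAlgebra ℤ G), 0 < D ∧
      mapRingHom G (Int.castRingHom ℚ) z = (D : ℚ) • x ∧
      ∀ n : ℕ, ∃ w, u ^ n * z = ((p ^ n : ℕ) : MonoidAlgebra ℤ G) * w := by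
    intro x hx
    induction hx using Submodule.span_induction with
    | mem s hs =>
      obtain ⟨h, h1, rfl⟩ := hs
      refine ⟨1, cycSum ℤ h, one_pos, by rw [map_cycSum, Nat.cast_one, one_smul], fun n => ?_⟩
      rcases n with _ | n
      · exact ⟨cycSum ℤ h, by simp⟩
      obtain ⟨w₁, hw₁⟩ := exists_eq_natCast_mul (m := p) (u * cycSum ℤ h) fun g => by
        rw [← ZMod.intCast_zmod_eq_zero_iff_dvd, ← eq_intCast (Int.castRingHom (ZMod p)),
          ← coeff_mapRingHom, map_mul, hmap, map_cycSum, hcentral, heJ h h1]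
        simp
      have hpow : u ^ (n + 1) * cycSum ℤ h ^ (n + 1) =
          ((p ^ (n + 1) : ℕ) : MonoidAlgebra ℤ G) * w₁ ^ (n + 1) := by
        rw [← (hucent _).mul_pow, hw₁, (Nat.cast_commute _ _).mul_pow, Nat.cast_pow]
      rw [cycSum_pow, mul_smul_comm] at hpow
      have hco : IsCoprime ((orderOf h : ℤ) ^ n) ((p : ℤ) ^ (n + 1)) := by
        refine IsCoprime.pow (Int.isCoprime_iff_nat_coprime.2 ?_)
        simp only [Int.natAbs_natCast]
        refine Nat.Coprime.symm ((Fact.out : p.Prime).coprime_iff_not_dvd.2 fun hd => hp ?_)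
        rw [CharP.cast_eq_zero_iff (ZMod p) p]
        exact hd.trans (orderOf_dvd_natCard h)
      obtain ⟨a, b, hab⟩ := hco
      refine ⟨a • w₁ ^ (n + 1) + b • (u ^ (n + 1) * cycSum ℤ h), ?_⟩
      calc u ^ (n + 1) * cycSum ℤ h
          = (a * (orderOf h : ℤ) ^ n + b * (p : ℤ) ^ (n + 1)) • (u ^ (n + 1) * cycSum ℤ h) := by
            rw [hab, one_smul]
        _ = _ := by
          rw [add_smul, mul_smul, mul_smul, hpow, mul_add, mul_smul_comm, mul_smul_comm]
          congr 2
          rw [← Nat.cast_pow, natCast_zsmul, nsmul_eq_mul]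
    | zero => exact ⟨1, 0, one_pos, by simp, fun n => ⟨0, by simp⟩⟩
    | add a b _ _ iha ihb =>
      obtain ⟨Da, za, hDa, hza, hwa⟩ := iha
      obtain ⟨Db, zb, hDb, hzb, hwb⟩ := ihb
      refine ⟨Da * Db, Db • za + Da • zb, Nat.mul_pos hDa hDb, ?_, fun n => ?_⟩
      · rw [map_add, map_nsmul, map_nsmul, hza, hzb, ← Nat.cast_smul_eq_nsmul ℚ,
          ← Nat.cast_smul_eq_nsmul ℚ, smul_smul, smul_smul, smul_add, Nat.cast_mul,
          mul_comm (Db : ℚ)]
      · obtain ⟨wa, hwa⟩ := hwa n
        obtain ⟨wb, hwb⟩ := hwb n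
        exact ⟨Db • wa + Da • wb, by
          simp only [mul_add, mul_smul_comm, hwa, hwb]⟩
    | smul c x _ ih =>
      obtain ⟨D, z, hD, hz, hw⟩ := ih
      obtain ⟨Dc, zc, hDc, hzc⟩ := exists_int_lift c
      refine ⟨Dc * D, zc * z, Nat.mul_pos hDc hD, ?_, fun n => ?_⟩
      · rw [map_mul, hz, hzc, smul_eq_mul, smul_mul_smul_comm, Nat.cast_mul]
      · obtain ⟨w, hw⟩ := hw n
        exact ⟨zc * w, by
          rw [← mul_assoc, ((hucent zc).pow_left n).eq, mul_assoc, hw, ← mul_assoc, ← mul_assoc,
            (Nat.cast_commute _ zc).eq]⟩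
  obtain ⟨D, z, hD, hz, hw⟩ := key 1 hI1
  have hzD : z = (D : MonoidAlgebra ℤ G) := by
    refine coeff_injective (Finsupp.ext fun g => Int.cast_injective (α := ℚ) ?_)
    rw [← eq_intCast (Int.castRingHom ℚ), ← coeff_mapRingHom, hz]
    rw [← eq_intCast (Int.castRingHom ℚ), ← coeff_mapRingHom, map_natCast,
      Nat.cast_smul_eq_nsmul, nsmul_one]
  obtain ⟨w, hw⟩ := hw (D + 1)
  rw [hzD] at hw
  apply he0
  have hmapn : mapRingHom G (Int.castRingHom (ZMod p)) (u ^ (D + 1)) = 0 := by
    refine coeff_injective (Finsupp.ext fun g => ?_)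
    rw [coeff_mapRingHom, eq_intCast, coeff_zero, Finsupp.zero_apply,
      ZMod.intCast_zmod_eq_zero_iff_dvd]
    have hd := dvd_coeff_natCast_mul (p ^ (D + 1)) w g
    rw [← hw, ← (Nat.cast_commute D (u ^ (D + 1))).eq, ← nsmul_eq_mul, ← natCast_zsmul,
      coeff_smul_apply, smul_eq_mul] at hd
    by_contra hnd
    have hco : IsCoprime ((p ^ (D + 1) : ℕ) : ℤ) ((u ^ (D + 1)).coeff g) := by
      push_cast
      exact ((Nat.prime_iff_prime_int.1 (Fact.out : p.Prime)).coprime_iff_not_dvd.2 hnd).pow_left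
    have h2 : p ^ (D + 1) ≤ D :=
      Nat.le_of_dvd hD (Int.natCast_dvd_natCast.1 (hco.dvd_of_dvd_mul_right hd))
    have := (D + 1).lt_pow_self (Fact.out : p.Prime).one_lt
    omega
  rw [map_pow, hmap, he.pow_succ_eq] at hmapn
  exact hmapn

/-- A killed integral element may be taken non-zero modulo a given prime. -/
theorem exists_killed_not_dvd {z : MonoidAlgebra ℤ G} (hz0 : z ≠ 0) (hz : Killed z) {r : ℕ}
    (hr : r.Prime) : ∃ z' : MonoidAlgebra ℤ G, Killed z' ∧ ∃ g, ¬ (r : ℤ) ∣ z'.coeff g := by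
  classical
  have : Fintype G := Fintype.ofFinite G
  obtain ⟨N, hN⟩ : ∃ N, N = ∑ g : G, (z.coeff g).natAbs := ⟨_, rfl⟩
  induction N using Nat.strong_induction_on generalizing z with
  | _ N ih => ?_
  by_cases h : ∃ g, ¬ (r : ℤ) ∣ z.coeff g
  · exact ⟨z, hz, h⟩
  push Not at h
  obtain ⟨w, hw⟩ := exists_eq_natCast_mul z h
  have hwk : Killed w := fun a a1 => by
    have := hz a a1
    rw [hw, ← nsmul_eq_mul, ← natCast_zsmul, mul_smul_comm] at this
    refine coeff_injective (Finsupp.ext fun g => ?_)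
    have h2 := congrArg (fun x : MonoidAlgebra ℤ G => x.coeff g) this
    simp only [coeff_smul_apply, coeff_zero, Finsupp.zero_apply, smul_eq_mul, mul_eq_zero] at h2
    simpa [hr.ne_zero] using h2
  have hw0 : w ≠ 0 := fun e => hz0 (by rw [hw, e, mul_zero])
  refine ih _ ?_ hw0 hwk rfl
  obtain ⟨g, hg⟩ : ∃ g, w.coeff g ≠ 0 := by
    by_contra hh
    push Not at hh
    exact hw0 (coeff_injective (Finsupp.ext fun g => by simpa using hh g))
  have hcoef : ∀ x, (z.coeff x).natAbs = r * (w.coeff x).natAbs := fun x => by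
    rw [hw, ← nsmul_eq_mul, coeff_smul_apply, nsmul_eq_mul, Int.natAbs_mul, Int.natAbs_natCast]
  rw [hN, Finset.sum_congr rfl fun x _ => hcoef x, ← Finset.mul_sum]
  have hpos : 0 < ∑ x : G, (w.coeff x).natAbs :=
    Finset.sum_pos' (fun x _ => Nat.zero_le _) ⟨g, Finset.mem_univ g, Int.natAbs_pos.2 hg⟩
  exact lt_mul_of_one_lt_left hpos hr.one_lt

/-- A killed integral element gives a representation over every field of coprime
characteristic. -/
theorem exists_rep_of_int {z : MonoidAlgebra ℤ G} (hz0 : z ≠ 0) (hz : Killed z) (K : Type*)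
    [Field K] (hK : (Nat.card G : K) ≠ 0) :
    ∃ (d : ℕ) (ρ : Representation K G (Fin d → K)), 0 < d ∧
      ∀ a : G, a ≠ 1 → ∀ v, ρ a v = v → v = 0 := by
  classical
  obtain ⟨y, hy0, hy⟩ : ∃ y : MonoidAlgebra K G, y ≠ 0 ∧ Killed y := by
    obtain ⟨q, hq⟩ := CharP.exists K
    rcases CharP.char_is_prime_or_zero K q with hqp | rfl
    · obtain ⟨z', hz', g, hg⟩ := exists_killed_not_dvd hz0 hz hqp
      refine ⟨_, fun e => hg ?_, hz'.map (Int.castRingHom K)⟩
      rw [← CharP.intCast_eq_zero_iff K q, ← eq_intCast (Int.castRingHom K), ← coeff_mapRingHom, e]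
      simp
    · have := CharP.charP_to_charZero K
      refine ⟨_, fun e => hz0 ?_, hz.map (Int.castRingHom K)⟩
      refine coeff_injective (Finsupp.ext fun g => Int.cast_injective (α := K) ?_)
      rw [← eq_intCast (Int.castRingHom K), ← coeff_mapRingHom, e]
      simp
  let W : Submodule K (MonoidAlgebra K G) :=
    { carrier := {x | Killed x}
      add_mem' := fun ha hb => Killed.add ha hb
      zero_mem' := killed_zero
      smul_mem' := fun c x hx => Killed.smul hx c }
  have : Module.Finite K (MonoidAlgebra K G) :=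
    Module.Finite.equiv (MonoidAlgebra.coeffLinearEquiv K).symm
  have : Nontrivial W := ⟨⟨⟨y, hy⟩, 0, fun e => hy0 (congrArg Subtype.val e)⟩⟩
  let b := (Module.finBasis K W).equivFun
  let f : G → Module.End K W := fun g =>
    (LinearMap.mulLeft K (of K G g)).restrict fun x hx => Killed.mul_left hx _
  have hf : ∀ g x, ((f g x : W) : MonoidAlgebra K G) = of K G g * (x : MonoidAlgebra K G) :=
    fun g x => rfl
  let ρ : Representation K G (Fin (Module.finrank K W) → K) :=
    { toFun := fun g => b.toLinearMap ∘ₗ f g ∘ₗ b.symm.toLinearMap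
      map_one' := by
        refine LinearMap.ext fun v => ?_
        show b (f 1 (b.symm v)) = v
        rw [show f 1 (b.symm v) = b.symm v from Subtype.ext (by rw [hf, map_one, one_mul]),
          b.apply_symm_apply]
      map_mul' := fun g g' => by
        refine LinearMap.ext fun v => ?_
        show b (f (g * g') (b.symm v)) = b (f g (b.symm (b (f g' (b.symm v)))))
        rw [b.symm_apply_apply]
        congr 1
        exact Subtype.ext (by rw [hf, hf, hf, map_mul, mul_assoc]) }
  refine ⟨_, ρ, Module.finrank_pos, fun a ha v hv => ?_⟩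
  have h1 : f a (b.symm v) = b.symm v := b.injective (hv.trans (b.apply_symm_apply v).symm)
  have h2 : of K G a * (b.symm v : MonoidAlgebra K G) = b.symm v := congrArg Subtype.val h1
  have h3 := (b.symm v).2 a ha
  rw [cycSum, Finset.sum_mul] at h3
  have hi : ∀ i : ℕ, of K G (a ^ i) * (b.symm v : MonoidAlgebra K G) = b.symm v := by
    intro i
    induction i with
    | zero => rw [pow_zero, map_one, one_mul]
    | succ i ih => rw [pow_succ, map_mul, mul_assoc, h2, ih]
  rw [Finset.sum_congr rfl fun i _ => hi i, Finset.sum_const, Finset.card_range,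
    ← Nat.cast_smul_eq_nsmul K] at h3
  have ho : (orderOf a : K) ≠ 0 := fun h0 => hK (by
    obtain ⟨c, hc⟩ := orderOf_dvd_natCard a
    rw [hc, Nat.cast_mul, h0, zero_mul])
  have : b.symm v = 0 := Subtype.ext ((smul_eq_zero.1 h3).resolve_left ho)
  exact b.symm.map_eq_zero_iff.1 this

/-- A fixed-point-free representation over a prime field gives one over every field of
characteristic prime to the order. -/
theorem exists_rep_any_field {p : ℕ} [Fact p.Prime] {V : Type*} [AddCommGroup V]
    [Module (ZMod p) V] [Nontrivial V] {σ : Representation (ZMod p) G V}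
    (hσ : ∀ a : G, a ≠ 1 → ∀ v : V, σ a v = v → v = 0) (K : Type*) [Field K]
    (hK : (Nat.card G : K) ≠ 0) :
    ∃ (d : ℕ) (ρ : Representation K G (Fin d → K)), 0 < d ∧
      ∀ a : G, a ≠ 1 → ∀ v, ρ a v = v → v = 0 := by
  obtain ⟨y, hy0, hy⟩ := exists_killed_of_rep hσ
  obtain ⟨z, hz0, hz⟩ := exists_int_of_zmod (Linear.card_ne_zero hσ) hy0 hy
  exact exists_rep_of_int hz0 hz K hK

/-- The same starting from the rationals. -/
theorem exists_rep_any_field_of_rat {V : Type*} [AddCommGroup V] [Module ℚ V] [Nontrivial V]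
    {σ : Representation ℚ G V} (hσ : ∀ a : G, a ≠ 1 → ∀ v : V, σ a v = v → v = 0) (K : Type*)
    [Field K] (hK : (Nat.card G : K) ≠ 0) :
    ∃ (d : ℕ) (ρ : Representation K G (Fin d → K)), 0 < d ∧
      ∀ a : G, a ≠ 1 → ∀ v, ρ a v = v → v = 0 := by
  obtain ⟨y, hy0, hy⟩ := exists_killed_of_rep hσ
  obtain ⟨z, hz0, hz⟩ := exists_int_of_rat hy0 hy
  exact exists_rep_of_int hz0 hz K hK

end CfsgLib.Frobenius.ChangeField
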